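import Groth.Agent.H28AbExt.LineConst
import Groth.Agent.H28Contr.Glue
import Groth.Agent.H27Weil.Geometry
import Mathlib.AlgebraicGeometry.Morphisms.Proper

/-!
# Morphisms without rational curves in the fibres descend along point blow-ups
-/

set_option autoImplicit false
set_option linter.style.haveILetI false
set_option backward.isDefEq.respectTransparency.types false
universe u

open CategoryTheory CategoryTheory.Limits AlgebraicGeometry
open Groth.Agent

noncomputable section

namespace Groth.Agent.H28AbExt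

variable {k : Type u} [Field k]

/-- A morphism from the projective line to an affine scheme factors through the base field. -/
theorem exists_factor_toSpec {X : Scheme.{u}} [IsAffine X] (φ : CohB1.ProjSpace 1 k ⟶ X) :
    ∃ π : Spec (CommRingCat.of k) ⟶ X, φ = CohB1.ProjSpace.toSpec 1 k ≫ π := by
  let t := CohB1.ProjSpace.toSpec 1 k
  haveI : IsProper t := H27Weil.isProper_toSpec 1 k
  obtain ⟨hint, -, -⟩ := H28Curve.projLine_facts k
  haveI := hint
  let s : Spec (CommRingCat.of k) ⟶ CohB1.ProjSpace 1 k :=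
    Spec.map (CommRingCat.ofHom (MvPolynomial.eval (0 : H17.P1Fibre.σ (0 : Fin (1 + 1)) → k))) ≫ H17.P1Fibre.chart k 0
  have hs : s ≫ t = 𝟙 _ := by
    rw [Category.assoc, H17.P1Fibre.chart_toSpec, ← Spec.map_comp, ← Spec.map_id]
    congr 1
    exact CommRingCat.hom_ext (RingHom.ext fun x => MvPolynomial.eval_C x)
  have hF : IsField Γ(CohB1.ProjSpace 1 k, ⊤) := isField_of_universallyClosed k t
  letI := hF.toField
  have hinj : Function.Injective s.appTop.hom := s.appTop.hom.injective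
  have hst : t.appTop ≫ s.appTop = 𝟙 _ := by
    rw [← Scheme.Hom.comp_appTop, hs, Scheme.Hom.id_appTop]
  have hts : s.appTop ≫ t.appTop = 𝟙 _ := CommRingCat.hom_ext (RingHom.ext fun g => hinj
    (ConcreteCategory.congr_hom hst (s.appTop.hom g)))
  refine ⟨s ≫ φ, ext_of_isAffine ?_⟩
  rw [Scheme.Hom.comp_appTop, Scheme.Hom.comp_appTop, Category.assoc, hts, Category.comp_id]

/-- Over an affine base, a morphism from a blown-up scheme to a scheme without rational curves in the fibres
descends. -/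
theorem exists_descend_seq {W X : Scheme.{u}} {g : W ⟶ X} (hg : Models.IsContractionSeq g) :
    ∀ [IsAffine X] {P : Scheme.{u}} (p : P ⟶ X), NoP1 p → ∀ h : W ⟶ P, h ≫ p = g →
      ∃ h₀ : X ⟶ P, h₀ ≫ p = 𝟙 X ∧ g ≫ h₀ = h := by
  induction hg with
  | iso e =>
    intro _ P p _ h hh
    exact ⟨e.inv ≫ h, by rw [Category.assoc, hh, e.inv_hom_id], e.hom_inv_id_assoc _⟩
  | @step W Z X E ι b r _ hE hb hr ih =>
    intro _ P p hp h hh
    obtain ⟨-, k, _, e, -⟩ := id hE
    obtain ⟨-, -, y, -, hrange, -⟩ := id hb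
    obtain ⟨π, hπ⟩ := exists_factor_toSpec (((e.hom ≫ ι) ≫ h) ≫ p)
    obtain ⟨a, ha, -⟩ := hp k ((e.hom ≫ ι) ≫ h) π hπ
    have hsingle : ∀ z : E, (ι ≫ h).base z = a (IsLocalRing.closedPoint k) := fun z => by
      obtain ⟨w, rfl⟩ := e.hom.homeomorph.surjective z
      show (ι ≫ h) (e.hom w) = _
      rw [← Scheme.Hom.comp_apply, ← Category.assoc, ha, Scheme.Hom.comp_apply]
      exact congrArg a (Subsingleton.elim (α := PrimeSpectrum k) _ _)
    obtain ⟨z₀⟩ : Nonempty E := by
      obtain ⟨z, -⟩ : y ∈ Set.range ((ι ≫ b).base : E → Z) := by rw [hrange]; exact rfl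
      exact ⟨z⟩
    obtain ⟨ψ, hψ, -⟩ := H28Contr.existsUnique_factor_of_isContractionOf hE hb h (a (IsLocalRing.closedPoint k))
      (Set.eq_singleton_iff_unique_mem.2 ⟨⟨z₀, hsingle z₀⟩, by rintro _ ⟨z, rfl⟩; exact hsingle z⟩)
    have hbz : ∀ z : E, (ι ≫ b).base z = y := fun z =>
      show (ι ≫ b).base z ∈ ({y} : Set Z) from hrange ▸ Set.mem_range_self z
    have hψp : ψ ≫ p = r := (H28Contr.existsUnique_factor_of_isContractionOf hE hb (b ≫ r) (r y)
      (Set.eq_singleton_iff_unique_mem.2 ⟨⟨z₀, congrArg r (hbz z₀)⟩,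
        by rintro _ ⟨z, rfl⟩; exact congrArg r (hbz z)⟩)).unique
      (by rw [← Category.assoc, hψ, hh]) rfl
    obtain ⟨h₀, hh₀, hh₀'⟩ := ih p hp ψ hψp
    exact ⟨h₀, hh₀, by rw [Category.assoc, hh₀', hψ]⟩

end Groth.Agent.H28AbExt
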