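import Groth.Agent.S14584
import Groth.Agent.H17.P1Fibre
import Groth.Agent.H28Curve.ProjLine
import Groth.Agent.H25Rig.Rigidity
import Mathlib.AlgebraicGeometry.AffineSpace

/-!
# Morphisms from the projective line to abelian varieties
-/

set_option autoImplicit false
set_option linter.style.haveILetI false
set_option backward.isDefEq.respectTransparency false
set_option backward.isDefEq.respectTransparency.types false
universe u

open CategoryTheory CategoryTheory.Limits MonoidalCategory CartesianMonoidalCategory MonObj AlgebraicGeometry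
open Groth.Agent

noncomputable section

namespace Groth.Agent.H28AbExt

attribute [local instance 2000] Hom.group Hom.monoid
attribute [local instance] Functor.grpObjObj

/-- Every morphism from the projective line over a field, lying over a point of the base, is constant. -/
def NoP1 {P X : Scheme.{u}} (p : P ⟶ X) : Prop :=
  ∀ (k : Type u) [Field k] (c : CohB1.ProjSpace 1 k ⟶ P) (π : Spec (CommRingCat.of k) ⟶ X),
    c ≫ p = CohB1.ProjSpace.toSpec 1 k ≫ π →
      ∃ a : Spec (CommRingCat.of k) ⟶ P, c = CohB1.ProjSpace.toSpec 1 k ≫ a ∧ a ≫ p = π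

theorem NoP1.of_isPullback {P X P' X' : Scheme.{u}} {p : P ⟶ X} {a : P' ⟶ P} {p' : P' ⟶ X'} {f : X' ⟶ X}
    (hp : IsPullback a p' p f) (h : NoP1 p) : NoP1 p' := fun k _ c π hc => by
  obtain ⟨b, hb, hbπ⟩ := h k (c ≫ a) (π ≫ f) (by rw [Category.assoc, hp.w, reassoc_of% hc])
  refine ⟨hp.lift b π hbπ, hp.hom_ext ?_ ?_, hp.lift_snd _ _ _⟩
  · rw [Category.assoc, hp.lift_fst, hb]
  · rw [Category.assoc, hp.lift_snd, hc]

variable {k : Type u} [Field k]

/-- Morphisms from affine space to an abelian variety are constant. -/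
theorem affineSpace_const (J : Type u) (A : Over (Spec (CommRingCat.of k))) [GrpObj A] [IsProper A.hom] [Smooth A.hom]
    [ConnectedSpace A.left] [Finite J] (f : Over.mk (AffineSpace J (Spec (CommRingCat.of k)) ↘ Spec (CommRingCat.of k)) ⟶ A) :
    ∃ a : 𝟙_ (Over (Spec (CommRingCat.of k))) ⟶ A, f = toUnit _ ≫ a := by
  let S := Spec (CommRingCat.of k)
  let L : Over S := Over.mk (AffineSpace J S ↘ S)
  haveI : GeometricallyIntegral L.hom := inferInstanceAs (GeometricallyIntegral (AffineSpace J S ↘ S))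
  haveI : LocallyOfFiniteType L.hom := inferInstanceAs (LocallyOfFiniteType (AffineSpace J S ↘ S))
  haveI : IsAffineHom L.hom := inferInstanceAs (IsAffineHom (AffineSpace J S ↘ S))
  let pt : ∀ (c : J → Γ((𝟙_ (Over S)).left, ⊤)), 𝟙_ (Over S) ⟶ L := fun c =>
    Over.homMk (AffineSpace.homOfVector (𝟙_ (Over S)).hom c) (AffineSpace.homOfVector_over _ _)
  let v : J → Γ((L ⊗ L).left, ⊤) := fun i =>
    (fst L L).left.appTop (AffineSpace.coord S i) * (snd L L).left.appTop (AffineSpace.coord S i)
  let μ' : L ⊗ L ⟶ L := Over.homMk (AffineSpace.homOfVector (L ⊗ L).hom v) (AffineSpace.homOfVector_over _ _)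
  have hμ : ∀ i, μ'.left.appTop (AffineSpace.coord S i) = v i := fun i =>
    AffineSpace.homOfVector_appTop_coord _ _ _
  have hpt : ∀ c i, (pt c).left.appTop (AffineSpace.coord S i) = c i := fun c i =>
    AffineSpace.homOfVector_appTop_coord _ _ _
  have hext : ∀ {T : Over S} (x y : T ⟶ L),
      (∀ i, x.left.appTop (AffineSpace.coord S i) = y.left.appTop (AffineSpace.coord S i)) → x = y :=
    fun x y h => Over.OverMorphism.ext (AffineSpace.hom_ext ((Over.w x).trans (Over.w y).symm) h)
  have hv : ∀ {T : Over S} (x y : T ⟶ L) i, (lift x y ≫ μ').left.appTop (AffineSpace.coord S i) =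
      x.left.appTop (AffineSpace.coord S i) * y.left.appTop (AffineSpace.coord S i) := fun x y i => by
    rw [Over.comp_left, Scheme.Hom.comp_appTop, CommRingCat.comp_apply, hμ, map_mul, ← CommRingCat.comp_apply,
      ← CommRingCat.comp_apply, ← Scheme.Hom.comp_appTop, ← Scheme.Hom.comp_appTop, ← Over.comp_left,
      ← Over.comp_left, lift_fst, lift_snd]
  have hcst : ∀ (c : J → Γ((𝟙_ (Over S)).left, ⊤)) i, (toUnit L ≫ pt c).left.appTop (AffineSpace.coord S i) =
      (toUnit L).left.appTop (c i) := fun c i => by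
    rw [Over.comp_left, Scheme.Hom.comp_appTop, CommRingCat.comp_apply, hpt]
  let o := pt 0
  let e := pt 1
  have h0 : lift (toUnit L ≫ o) (𝟙 L) ≫ μ' = toUnit L ≫ o := hext _ _ fun i => by
    rw [hv, hcst]; simp
  have h0' : lift (𝟙 L) (toUnit L ≫ o) ≫ μ' = toUnit L ≫ o := hext _ _ fun i => by
    rw [hv, hcst]; simp
  have h1 : lift (𝟙 L) (toUnit L ≫ e) ≫ μ' = 𝟙 L := hext _ _ fun i => by
    rw [hv, hcst]; simp
  have key := S14584.result k L L A o o (μ' ≫ f)
  refine ⟨o ≫ f, ?_⟩
  have hoo : lift o o ≫ μ' = o := hext _ _ fun i => by rw [hv, hpt]; simp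
  have h2 := congrArg (lift (𝟙 L) (toUnit L ≫ e) ≫ ·) key
  simp only [reassoc_of% h1, reassoc_of% h0, reassoc_of% h0', reassoc_of% hoo] at h2
  refine h2.trans ?_
  simp only [MonObj.comp_mul, GrpObj.comp_inv, ← Category.assoc,
    toUnit_unique (lift (𝟙 L) (toUnit L ≫ e) ≫ toUnit (L ⊗ L)) (toUnit L),
    toUnit_unique ((lift (𝟙 L) (toUnit L ≫ e) ≫ snd L L) ≫ toUnit L) (toUnit L),
    toUnit_unique ((lift (𝟙 L) (toUnit L ≫ e) ≫ fst L L) ≫ toUnit L) (toUnit L)]
  rw [inv_mul_cancel, _root_.one_mul]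

/-- Morphisms from the projective line to an abelian variety are constant. -/
theorem projLine_const (A : Over (Spec (CommRingCat.of k))) [GrpObj A] [IsProper A.hom] [Smooth A.hom]
    [ConnectedSpace A.left] (c : CohB1.ProjSpace 1 k ⟶ A.left) (hc : c ≫ A.hom = CohB1.ProjSpace.toSpec 1 k) :
    ∃ a : Spec (CommRingCat.of k) ⟶ A.left, c = CohB1.ProjSpace.toSpec 1 k ≫ a ∧ a ≫ A.hom = 𝟙 _ := by
  let S := Spec (CommRingCat.of k)
  let J : Type u := ULift.{u} (H17.P1Fibre.σ (0 : Fin (1 + 1)))
  let e := AffineSpace.SpecIso J (CommRingCat.of k)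
  let r : MvPolynomial (H17.P1Fibre.σ (0 : Fin (1 + 1))) k ≃ₐ[k] MvPolynomial J k :=
    MvPolynomial.renameEquiv k Equiv.ulift.symm
  let q := Spec.map r.toRingEquiv.toCommRingCatIso.hom
  let j : AffineSpace J S ⟶ CohB1.ProjSpace 1 k := e.hom ≫ q ≫ H17.P1Fibre.chart k 0
  have hj : j ≫ CohB1.ProjSpace.toSpec 1 k = AffineSpace J S ↘ S := by
    rw [Category.assoc, Category.assoc, H17.P1Fibre.chart_toSpec, ← Spec.map_comp, ← Iso.eq_inv_comp,
      AffineSpace.SpecIso_inv_over]
    congr 1
    exact CommRingCat.hom_ext (RingHom.ext fun x => (r.commutes x).trans rfl)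
  let f : Over.mk (AffineSpace J S ↘ S) ⟶ A :=
    Over.homMk (j ≫ c) (by rw [Category.assoc, hc]; exact hj)
  obtain ⟨a, ha⟩ := affineSpace_const _ A f
  refine ⟨a.left, ?_, Over.w a⟩
  obtain ⟨hint, -, -⟩ := H28Curve.projLine_facts k
  haveI := hint
  haveI : IsDominant j := by
    haveI : IsOpenImmersion j := by
      haveI := H17.P1Fibre.isIso_chartInv k (0 : Fin (1 + 1))
      haveI : IsOpenImmersion (H17.P1Fibre.chart k 0) := by unfold H17.P1Fibre.chart; infer_instance
      haveI : IsIso q := inferInstanceAs (IsIso (Spec.map _))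
      infer_instance
    haveI : Nonempty (AffineSpace J S) :=
      ⟨(AffineSpace.homOfVector (𝟙 S) 0) (IsLocalRing.closedPoint k)⟩
    exact ⟨j.isOpenEmbedding.isOpen_range.dense (Set.range_nonempty _)⟩
  refine ext_of_isDominant_of_isSeparated A.hom ?_ j ?_
  · rw [hc, Category.assoc, Over.w a]
    exact (Category.comp_id _).symm
  · rw [← Category.assoc, hj]
    exact congrArg (·.left) ha

/-- The fibres of an abelian scheme contain no rational curves. -/
theorem noP1_abScheme {S : Scheme.{u}} (A : Over S) [GrpObj A] [IsProper A.hom] [Smooth A.hom]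
    [GeometricallyConnected A.hom] : NoP1 A.hom := fun k _ c π hc => by
  let B := (Over.pullback π).obj A
  haveI : IsProper B.hom := inferInstanceAs (IsProper (pullback.snd A.hom π))
  haveI : Smooth B.hom := inferInstanceAs (Smooth (pullback.snd A.hom π))
  haveI : ConnectedSpace B.left :=
    GeometricallyConnected.geometrically_connectedSpace (f := A.hom) π _ _ (IsPullback.of_hasPullback A.hom π)
  obtain ⟨a, ha, ha'⟩ := projLine_const B (pullback.lift c (CohB1.ProjSpace.toSpec 1 k) hc) (pullback.lift_snd _ _ _)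
  refine ⟨a ≫ pullback.fst A.hom π, ?_, ?_⟩
  · have := congrArg (· ≫ pullback.fst A.hom π) ha
    simp only [pullback.lift_fst, Category.assoc] at this
    exact this
  · rw [Category.assoc, pullback.condition, ← Category.assoc]
    exact (congrArg (· ≫ π) ha').trans (Category.id_comp π)

end Groth.Agent.H28AbExt
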