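import Groth.Agent.H28AbExt.Contract
import Groth.Agent.H28Contr.Dominate
import Groth.Agent.H28Neron.Extend
import Groth.Agent.H28Neron.Hartogs
import Groth.Agent.H05EGA4.Regular
import Groth.Agent.H4Depth.Regular

/-!
# Rational maps from regular schemes to proper schemes without rational curves in the fibres
-/

set_option autoImplicit false
set_option linter.style.haveILetI false
set_option backward.isDefEq.respectTransparency.types false
universe u

open CategoryTheory CategoryTheory.Limits AlgebraicGeometry TopologicalSpace IsLocalRing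
open Groth.Agent

noncomputable section

namespace Groth.Agent.H28AbExt

/-- Sections over dense opens of `Spec R` of proper schemes without rational curves in the fibres extend. -/
def Ext1 (R : Type u) [CommRing R] : Prop :=
  ∀ (P : Scheme.{u}) (p : P ⟶ Spec (CommRingCat.of R)) [IsProper p], NoP1 p →
    ∀ (U : (Spec (CommRingCat.of R)).Opens), (U : Set (Spec (CommRingCat.of R))).Nonempty →
      ∀ s : (U : Scheme.{u}) ⟶ P, s ≫ p = U.ι →
        ∃ h : Spec (CommRingCat.of R) ⟶ P, h ≫ p = 𝟙 _ ∧ U.ι ≫ h = s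

theorem exists_nhd_of_local {T P : Scheme.{u}} [IsLocallyNoetherian T] [IsReduced T] (p : P ⟶ T) [IsProper p]
    (hp : NoP1 p) (U : T.Opens) (hU : Dense (U : Set T)) (f : (U : Scheme.{u}) ⟶ P) (hf : f ≫ p = U.ι) (t : T)
    [IsDomain (T.presheaf.stalk t)] (H : Ext1 (T.presheaf.stalk t)) :
    ∃ (W : T.Opens) (g : W.toScheme ⟶ P), t ∈ W ∧ g ≫ p = W.ι ≫ 𝟙 T ∧
      T.homOfLE (inf_le_left : U ⊓ W ≤ U) ≫ f = T.homOfLE inf_le_right ≫ g := by
  let ι0 := T.fromSpecStalk t
  have hxU := H28Neron.genPoint_mem_of_dense t hU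
  let σ : Spec (CommRingCat.of (FractionRing (T.presheaf.stalk t))) ⟶ Spec (T.presheaf.stalk t) :=
    Spec.map (CommRingCat.ofHom (algebraMap (T.presheaf.stalk t) _))
  have hσ : Set.range σ ⊆ Set.range (ι0 ⁻¹ᵁ U).ι := by
    rintro _ ⟨w, rfl⟩
    rw [Scheme.Opens.range_ι]
    show ι0 (σ w) ∈ U
    rw [Subsingleton.elim (α := PrimeSpectrum (FractionRing (T.presheaf.stalk t))) w (H28Neron.fracPt T t)]
    exact hxU
  have hne : (ι0 ⁻¹ᵁ U : Set (Spec (T.presheaf.stalk t))).Nonempty :=
    ⟨σ (H28Neron.fracPt T t), by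
      have := hσ ⟨H28Neron.fracPt T t, rfl⟩
      rwa [Scheme.Opens.range_ι] at this⟩
  obtain ⟨h, hh, hhs⟩ := H (pullback p ι0) (pullback.snd p ι0) (hp.of_isPullback (IsPullback.of_hasPullback p ι0))
    (ι0 ⁻¹ᵁ U) hne
    (pullback.lift ((ι0 ∣_ U) ≫ f) (ι0 ⁻¹ᵁ U).ι (by rw [Category.assoc, hf, morphismRestrict_ι]))
    (pullback.lift_snd _ _ _)
  refine H28Neron.exists_nhd_of_stalk_lift (𝟙 T) p U f (by rw [hf, Category.comp_id]) t hxU
    (h ≫ pullback.fst p ι0) ?_ ?_
  · rw [Category.assoc, pullback.condition, ← Category.assoc]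
    exact (congrArg (· ≫ ι0) hh).trans ((Category.id_comp ι0).trans (Category.comp_id ι0).symm)
  · let m := IsOpenImmersion.lift (ι0 ⁻¹ᵁ U).ι σ hσ
    have hm : m ≫ (ι0 ⁻¹ᵁ U).ι = σ := IsOpenImmersion.lift_fac _ _ _
    have e : IsOpenImmersion.lift U.ι (H28Neron.genStalk T t) (H28Neron.range_genStalk_subset t hxU) =
        m ≫ (ι0 ∣_ U) := by
      rw [← cancel_mono U.ι, IsOpenImmersion.lift_fac, Category.assoc, morphismRestrict_ι, reassoc_of% hm]
      rfl
    have h2 := congrArg (fun z => m ≫ z ≫ pullback.fst p ι0) hhs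
    simp only [pullback.lift_fst, Category.assoc, reassoc_of% hm] at h2
    rw [e, Category.assoc]
    exact h2.symm

theorem dense_of_irreducible {X : Scheme.{u}} [IrreducibleSpace X] (U : X.Opens) (hU : (U : Set X).Nonempty) :
    Dense (U : Set X) := U.2.dense hU

theorem exists_top_extension {T P : Scheme.{u}} {p : P ⟶ T} {U V : T.Opens} {f : (U : Scheme.{u}) ⟶ P}
    {v : (V : Scheme.{u}) ⟶ P} (hUV : U ≤ V) (hv : v ≫ p = V.ι) (hf : T.homOfLE hUV ≫ v = f) (hV : V = ⊤) :
    ∃ g : T ⟶ P, g ≫ p = 𝟙 T ∧ U.ι ≫ g = f := by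
  subst hV
  refine ⟨T.topIso.inv ≫ v, by rw [Category.assoc, hv, ← T.topIso_hom, Iso.inv_hom_id], ?_⟩
  rw [← hf, ← Category.assoc]
  congr 1
  rw [← cancel_mono (⊤ : T.Opens).ι, Category.assoc, Scheme.homOfLE_ι, ← T.topIso_hom, Iso.inv_hom_id,
    Category.comp_id]

theorem isRegularLocalRing_stalk_spec (R : Type u) [CommRing R] [IsRegularLocalRing R]
    (z : Spec (CommRingCat.of R)) : IsRegularLocalRing ((Spec (CommRingCat.of R)).presheaf.stalk z) := by
  haveI := H05EGA4.isRegularRing_of_isRegularLocalRing R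
  exact H28Neron.isRegularLocalRing_stalk_of_smooth (𝟙 (Spec (CommRingCat.of R))) z

/-- Sections over dense opens of the spectrum of a regular local ring extend. -/
theorem ext1_of_regular : ∀ (n : ℕ) (R : Type u) [CommRing R] [IsRegularLocalRing R],
    ringKrullDim R = n → Ext1 R := by
  intro n
  induction n using Nat.strong_induction_on with
  | _ n IH =>
  intro R _ _ hn P p _ hp U hU s hs
  haveI := H4Depth.isDomain_of_isRegularLocalRing R
  haveI : IsNoetherianRing (CommRingCat.of R) := inferInstanceAs (IsNoetherianRing R)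
  haveI : IsNoetherian (Spec (CommRingCat.of R)) := inferInstance
  haveI : IsDomain (CommRingCat.of R) := inferInstanceAs (IsDomain R)
  haveI : IsLocalRing (CommRingCat.of R) := inferInstanceAs (IsLocalRing R)
  haveI : IrreducibleSpace (Spec (CommRingCat.of R)) := inferInstanceAs (IrreducibleSpace (PrimeSpectrum R))
  haveI hdom : ∀ z : Spec (CommRingCat.of R), IsDomain ((Spec (CommRingCat.of R)).presheaf.stalk z) := fun z => by
    haveI := isRegularLocalRing_stalk_spec R z
    exact H4Depth.isDomain_of_isRegularLocalRing _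
  let cl : Spec (CommRingCat.of R) := closedPoint R
  have htop : topologicalKrullDim (Spec (CommRingCat.of R)) = n :=
    (PrimeSpectrum.topologicalKrullDim_eq_ringKrullDim R).trans hn
  have hcl : ∀ z : Spec (CommRingCat.of R), z ⤳ cl := fun z => IsLocalRing.specializes_closedPoint z
  obtain ⟨V, hUV, v, hv, hvs, hmax⟩ := H28Neron.exists_maximal_extension (𝟙 _) p U
    (dense_of_irreducible U hU) s (by rw [hs, Category.comp_id])
  rw [Category.comp_id] at hv
  have hVne : (V : Set (Spec (CommRingCat.of R))).Nonempty := hU.mono hUV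
  have hVd := dense_of_irreducible V hVne
  -- extensions of `v` near a point extend `s`
  have hmax' : ∀ (W : (Spec (CommRingCat.of R)).Opens) (g : W.toScheme ⟶ P), g ≫ p = W.ι ≫ 𝟙 _ →
      (Spec (CommRingCat.of R)).homOfLE (inf_le_left : V ⊓ W ≤ V) ≫ v =
        (Spec (CommRingCat.of R)).homOfLE inf_le_right ≫ g → W ≤ V := fun W g h1 h2 => hmax W g h1 <| by
    have := congrArg ((Spec (CommRingCat.of R)).homOfLE (inf_le_inf_right W hUV) ≫ ·) h2
    simp only [Scheme.homOfLE_homOfLE_assoc] at this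
    rw [← hvs, Scheme.homOfLE_homOfLE_assoc]
    exact this
  -- the punctured spectrum
  have hpunct : ∀ z : Spec (CommRingCat.of R), z ≠ cl → z ∈ V := fun z hz => by
    haveI := isRegularLocalRing_stalk_spec R z
    obtain ⟨m, hm⟩ : ∃ m : ℕ, ringKrullDim ((Spec (CommRingCat.of R)).presheaf.stalk z) = m :=
      ⟨_, ((isRegularLocalRing_iff _).mp inferInstance).symm⟩
    have hlt : m < n := by
      have := (H28Contr.ringKrullDim_stalk_lt (hcl z) hz).trans_le
        ((H28Contr.ringKrullDim_stalk_le_top cl).trans htop.le)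
      rw [hm] at this
      exact_mod_cast this
    obtain ⟨W, g, hzW, h1, h2⟩ := exists_nhd_of_local p hp V hVd v hv z (IH m hlt _ hm)
    exact hmax' W g h1 h2 hzW
  suffices hclV : cl ∈ V by
    refine exists_top_extension hUV hv hvs (eq_top_iff.2 fun z _ => ?_)
    by_cases hz : z = cl
    · exact hz ▸ hclV
    · exact hpunct z hz
  rcases lt_trichotomy n 2 with hn2 | hn2 | hn2
  · -- dimension at most one
    haveI := isRegularLocalRing_stalk_spec R cl
    haveI := H28Neron.valuationRing_of_regular ((Spec (CommRingCat.of R)).presheaf.stalk cl)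
      (((H28Contr.ringKrullDim_stalk_le_top cl).trans htop.le).trans (by exact_mod_cast Nat.le_of_lt_succ hn2))
    obtain ⟨W, g, hW, h1, h2⟩ := H28Neron.exists_nhd_extension (𝟙 _) p V hVd v
      (by rw [hv, Category.comp_id]) cl
    exact hmax' W g h1 h2 hW
  · -- dimension two
    subst hn2
    have hinv : H28Contr.Inv V (𝟙 (Spec (CommRingCat.of R))) :=
      ⟨fun z _ => isRegularLocalRing_stalk_spec R z,
        fun z _ => (H28Contr.ringKrullDim_stalk_le_top z).trans (htop.le.trans_eq rfl), fun z _ P0 hP0 => by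
          show (Spec (CommRingCat.of R)).fromSpecStalk z P0 ∈ V
          refine Specializes.mem_open ?_ V.2 (H28Neron.genPoint_mem_of_dense z hVd)
          rw [H28Neron.genPoint, H28Neron.genStalk, Scheme.Hom.comp_apply]
          refine Specializes.map ((PrimeSpectrum.le_iff_specializes _ _).mp ?_)
            ((Spec (CommRingCat.of R)).fromSpecStalk z).continuous
          show P0.asIdeal ≤ _
          rw [hP0]; exact bot_le⟩
    obtain ⟨W, g, hseq, hiso, h, hhp, hh⟩ := H28Contr.exists_dominate p V v hv hinv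
    obtain ⟨h₀, hh₀, hgh⟩ := exists_descend_seq hseq p hp h hhp
    refine hmax' ⊤ ((⊤ : (Spec (CommRingCat.of R)).Opens).ι ≫ h₀) (by rw [Category.assoc, hh₀]) ?_ trivial
    rw [Scheme.homOfLE_ι_assoc]
    have hV : v = V.ι ≫ h₀ := by
      rw [← cancel_epi (g ∣_ V), ← hh, ← hgh, morphismRestrict_ι_assoc]
    rw [hV, Scheme.homOfLE_ι_assoc]
  · -- dimension at least three
    obtain ⟨gens, hgens⟩ : ∃ g : Fin n → R, Ideal.span (Set.range g) = maximalIdeal R := by
      have hsp := IsRegularLocalRing.spanFinrank_maximalIdeal (R := R)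
      rw [hn] at hsp
      have : (maximalIdeal R).spanFinrank = n := by exact_mod_cast hsp
      subst this
      exact H4Depth.exists_fun_fin_span_eq
    let J := Ideal.span (gens '' ↑({⟨0, by omega⟩} : Finset (Fin n)))
    obtain ⟨hreg', hdim'⟩ : ∃ _ : IsRegularLocalRing (R ⧸ J), ringKrullDim (R ⧸ J) = ((n - 1 : ℕ) : WithBot ℕ∞) := by
      obtain ⟨h1, h2⟩ := H4Depth.exists_regular_quotient_of_subset n hn gens hgens {⟨0, by omega⟩}
      exact ⟨h1, by rwa [Finset.card_singleton] at h2⟩
    haveI := H4Depth.isDomain_of_isRegularLocalRing (R ⧸ J)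
    let ι' : Spec (CommRingCat.of (R ⧸ J)) ⟶ Spec (CommRingCat.of R) :=
      Spec.map (CommRingCat.ofHom (Ideal.Quotient.mk J))
    let cl' : Spec (CommRingCat.of (R ⧸ J)) := closedPoint (R ⧸ J)
    have hcl' : ι' cl' = cl := PrimeSpectrum.ext
      (eq_maximalIdeal (Ideal.comap_isMaximal_of_surjective (K := maximalIdeal (R ⧸ J)) (Ideal.Quotient.mk J)
        Ideal.Quotient.mk_surjective))
    have hpunct' : ∀ q, q ≠ cl' → ι' q ∈ V := fun q hq => hpunct _ fun e =>
      hq (PrimeSpectrum.ext (Ideal.comap_injective_of_surjective _ Ideal.Quotient.mk_surjective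
        (congrArg PrimeSpectrum.asIdeal (e.trans hcl'.symm))))
    have hU' : (ι' ⁻¹ᵁ V : Set (Spec (CommRingCat.of (R ⧸ J)))).Nonempty :=
      ⟨(⊥ : PrimeSpectrum (R ⧸ J)), hpunct' _ fun e => by
        have h0 : (⊥ : Ideal (R ⧸ J)) = maximalIdeal (R ⧸ J) := congrArg PrimeSpectrum.asIdeal e
        have := IsLocalRing.maximalIdeal_height_eq_ringKrullDim (R := R ⧸ J)
        rw [← h0, Ideal.height_bot, hdim'] at this
        generalize hk : n - 1 = k at this
        norm_cast at this
        omega⟩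
    obtain ⟨h', hh', hhs'⟩ := IH (n - 1) (by omega) (R ⧸ J) hdim' (pullback p ι') (pullback.snd p ι')
      (hp.of_isPullback (IsPullback.of_hasPullback p ι')) (ι' ⁻¹ᵁ V) hU'
      (pullback.lift ((ι' ∣_ V) ≫ v) (ι' ⁻¹ᵁ V).ι (by rw [Category.assoc, hv, morphismRestrict_ι]))
      (pullback.lift_snd _ _ _)
    let a := (h' ≫ pullback.fst p ι') cl'
    obtain ⟨W, hW, haW, -⟩ := exists_isAffineOpen_mem_and_subset (X := P) (x := a) (U := ⊤) trivial
    have himg : ∀ q, q ≠ cl' → ι' q ∈ V.ι ''ᵁ (v ⁻¹ᵁ W) := fun q hq => by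
      let qU : (ι' ⁻¹ᵁ V).toScheme := ⟨q, hpunct' q hq⟩
      refine ⟨(ι' ∣_ V) qU, ?_, ?_⟩
      · show v ((ι' ∣_ V) qU) ∈ W
        have e : ((ι' ∣_ V) ≫ v) = (ι' ⁻¹ᵁ V).ι ≫ h' ≫ pullback.fst p ι' := by
          rw [← Category.assoc, hhs', pullback.lift_fst]
        rw [← Scheme.Hom.comp_apply, e, Scheme.Hom.comp_apply]
        exact ((IsLocalRing.specializes_closedPoint q).map (h' ≫ pullback.fst p ι').continuous).mem_open W.2 haW
      · exact (Scheme.Hom.comp_apply (ι' ∣_ V) V.ι qU).symm.trans (by rw [morphismRestrict_ι]; rfl)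
    haveI := isRegularLocalRing_stalk_spec R cl
    haveI := H28Alg.ufd_of_regular ((Spec (CommRingCat.of R)).presheaf.stalk cl)
    obtain ⟨q₀, hq₀⟩ := hU'
    have hne : ((V.ι ''ᵁ (v ⁻¹ᵁ W) : (Spec (CommRingCat.of R)).Opens) : Set (Spec (CommRingCat.of R))).Nonempty :=
      ⟨_, himg (⊥ : PrimeSpectrum (R ⧸ J)) fun e => by
        have h0 : (⊥ : Ideal (R ⧸ J)) = maximalIdeal (R ⧸ J) := congrArg PrimeSpectrum.asIdeal e
        have := IsLocalRing.maximalIdeal_height_eq_ringKrullDim (R := R ⧸ J)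
        rw [← h0, Ideal.height_bot, hdim'] at this
        generalize hk : n - 1 = k at this
        norm_cast at this
        omega⟩
    obtain ⟨W', g, hclW', h1, h2⟩ := H28Neron.exists_nhd_of_regular (𝟙 _) p V v
      (by rw [hv, Category.comp_id]) cl W hW
      (H28Neron.genPoint_mem_of_dense cl (dense_of_irreducible _ hne)) fun d hd => by
        let e := stalkClosedPointIso (CommRingCat.of R)
        obtain ⟨r, rfl⟩ : ∃ r, e.inv r = d := ⟨e.hom d, e.hom_inv_id_apply d⟩
        have hr : r ∈ maximalIdeal R := fun hu => hd (hu.map e.inv.hom)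
        set r' := Ideal.Quotient.mk J r
        have hr' : r' ∈ maximalIdeal (R ⧸ J) := by
          have : r ∈ (maximalIdeal (R ⧸ J)).comap (Ideal.Quotient.mk J) := by
            rw [eq_maximalIdeal (Ideal.comap_isMaximal_of_surjective (Ideal.Quotient.mk J)
              Ideal.Quotient.mk_surjective)]
            exact hr
          exact this
        obtain ⟨Q, hQ, hQle⟩ := Ideal.exists_minimalPrimes_le
          (show Ideal.span {r'} ≤ maximalIdeal (R ⧸ J) from (Ideal.span_singleton_le_iff_mem _).2 hr')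
        haveI : Q.IsPrime := hQ.1.1
        haveI : (Ideal.span {r'}).IsPrincipal := ⟨⟨r', rfl⟩⟩
        have hh1 : Q.height ≤ 1 := Ideal.height_le_one_of_isPrincipal_of_mem_minimalPrimes _ Q hQ
        have hQne : (⟨Q, inferInstance⟩ : PrimeSpectrum (R ⧸ J)) ≠ closedPoint (R ⧸ J) := fun e' => by
          have h0 : Q = maximalIdeal (R ⧸ J) := congrArg PrimeSpectrum.asIdeal e'
          have := IsLocalRing.maximalIdeal_height_eq_ringKrullDim (R := R ⧸ J)
          rw [← h0, hdim'] at this
          have hle : ((n - 1 : ℕ) : WithBot ℕ∞) ≤ ((1 : ℕ∞) : WithBot ℕ∞) := this ▸ WithBot.coe_le_coe.2 hh1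
          generalize hk : n - 1 = k at hle
          norm_cast at hle
          omega
        let q : Spec (CommRingCat.of (R ⧸ J)) := ⟨Q, inferInstance⟩
        let P0 : Spec ((Spec (CommRingCat.of R)).presheaf.stalk cl) := Spec.map e.hom (ι' q)
        have hP0 : (Spec (CommRingCat.of R)).fromSpecStalk cl P0 = ι' q := by
          rw [← Spec_stalkClosedPointIso, ← Scheme.Hom.comp_apply, ← Spec.map_comp, Iso.inv_hom_id, Spec.map_id]
          rfl
        refine ⟨P0, ?_, hP0 ▸ himg q hQne⟩
        show e.hom (e.inv r) ∈ (ι' q).asIdeal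
        rw [e.inv_hom_id_apply]
        exact hQ.1.2 (Ideal.mem_span_singleton_self r')
    exact hmax' W' g h1 h2 hclW'

/-- Sections over dense opens of regular schemes of proper schemes without rational curves in the fibres
extend. -/
theorem exists_extension {T P : Scheme.{u}} [IsLocallyNoetherian T]
    (hT : ∀ t : T, IsRegularLocalRing (T.presheaf.stalk t)) (p : P ⟶ T) [IsProper p] (hp : NoP1 p)
    (U : T.Opens) (hU : Dense (U : Set T)) (f : (U : Scheme.{u}) ⟶ P) (hf : f ≫ p = U.ι) :
    ∃ g : T ⟶ P, g ≫ p = 𝟙 T ∧ U.ι ≫ g = f := by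
  haveI hdom : ∀ t, IsDomain (T.presheaf.stalk t) := fun t => by
    haveI := hT t
    exact H4Depth.isDomain_of_isRegularLocalRing _
  haveI : ∀ t : T, _root_.IsReduced (T.presheaf.stalk t) := fun t => inferInstance
  haveI := isReduced_of_isReduced_stalk T
  obtain ⟨V, hUV, v, hv, hvf, hmax⟩ := H28Neron.exists_maximal_extension (𝟙 T) p U hU f
    (by rw [hf, Category.comp_id])
  refine exists_top_extension hUV (hv.trans (Category.comp_id _)) hvf (eq_top_iff.2 fun t _ => ?_)
  haveI := hT t
  obtain ⟨m, hm⟩ : ∃ m : ℕ, ringKrullDim (T.presheaf.stalk t) = m :=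
    ⟨_, ((isRegularLocalRing_iff _).mp inferInstance).symm⟩
  obtain ⟨W, g, htW, h1, h2⟩ := exists_nhd_of_local p hp U hU f hf t (ext1_of_regular m _ hm)
  exact hmax W g h1 h2 htW

end Groth.Agent.H28AbExt
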