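import Groth.Agent.H28AbExt.Main
import Groth.Agent.H26Smooth.ProjSmooth
import Mathlib.RingTheory.Jacobson.Ring
import Mathlib.FieldTheory.IsAlgClosed.Basic
import Mathlib.Algebra.MvPolynomial.Funext

/-!
# A proper scheme over an algebraically closed field without rational curves has none after extending the field
-/

set_option autoImplicit false
set_option linter.style.haveILetI false
set_option backward.isDefEq.respectTransparency false
set_option backward.isDefEq.respectTransparency.types false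
set_option maxHeartbeats 1000000
universe u

open CategoryTheory CategoryTheory.Limits AlgebraicGeometry TopologicalSpace MvPolynomial
open Groth.Agent

noncomputable section

namespace Groth.Agent.H28AbExt

variable {k : Type u} [Field k] {Y : Scheme.{u}}

local notation "σ₀" => H17.P1Fibre.σ (0 : Fin (1 + 1))

theorem isOpenImmersion_chart (L : Type u) [Field L] : IsOpenImmersion (H17.P1Fibre.chart L 0) := by
  haveI := H17.P1Fibre.isIso_chartInv L (0 : Fin (1 + 1))
  unfold H17.P1Fibre.chart; infer_instance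

/-- A morphism from an open of the projective line to a proper scheme extends. -/
theorem exists_extension_projLine (p : Y ⟶ Spec (CommRingCat.of k)) [IsProper p] {Z : Scheme.{u}} [Nonempty Z]
    (j : Z ⟶ CohB1.ProjSpace 1 k) [IsOpenImmersion j] (m : Z ⟶ Y)
    (hm : m ≫ p = j ≫ CohB1.ProjSpace.toSpec 1 k) :
    ∃ g : CohB1.ProjSpace 1 k ⟶ Y, j ≫ g = m ∧ g ≫ p = CohB1.ProjSpace.toSpec 1 k := by
  obtain ⟨hint, -, hdim⟩ := H28Curve.projLine_facts k
  haveI := hint
  haveI : Smooth (CohB1.ProjSpace.toSpec 1 k) := H26Smooth.smooth_toSpec 1 k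
  haveI : IsLocallyNoetherian (CohB1.ProjSpace 1 k) :=
    LocallyOfFiniteType.isLocallyNoetherian (CohB1.ProjSpace.toSpec 1 k)
  have hd : Dense (j.opensRange : Set (CohB1.ProjSpace 1 k)) :=
    j.opensRange.2.dense ⟨j (Classical.arbitrary Z), ⟨_, rfl⟩⟩
  obtain ⟨V, hUV, v, hv, hvf, hmax⟩ := H28Neron.exists_maximal_extension (CohB1.ProjSpace.toSpec 1 k) p
    j.opensRange hd (j.isoOpensRange.inv ≫ m)
    (by rw [Category.assoc, hm, Scheme.Hom.isoOpensRange_inv_comp_assoc])
  have hV : V = ⊤ := eq_top_iff.2 fun x _ => by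
    haveI := H28Neron.isRegularLocalRing_stalk_of_smooth (CohB1.ProjSpace.toSpec 1 k) x
    haveI := H4Depth.isDomain_of_isRegularLocalRing ((CohB1.ProjSpace 1 k).presheaf.stalk x)
    haveI := H28Neron.valuationRing_of_regular ((CohB1.ProjSpace 1 k).presheaf.stalk x)
      (((H28Contr.ringKrullDim_stalk_le_top x).trans hdim.le).trans (by norm_num))
    obtain ⟨W, g, hxW, h1, h2⟩ := H28Neron.exists_nhd_extension (CohB1.ProjSpace.toSpec 1 k) p
      j.opensRange hd (j.isoOpensRange.inv ≫ m)
      (by rw [Category.assoc, hm, Scheme.Hom.isoOpensRange_inv_comp_assoc]) x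
    exact hmax W g h1 h2 hxW
  subst hV
  refine ⟨(CohB1.ProjSpace 1 k).topIso.inv ≫ v, ?_, ?_⟩
  · have e : j = j.isoOpensRange.hom ≫ j.opensRange.ι := (Scheme.Hom.isoOpensRange_hom_ι j).symm
    conv_lhs => rw [e]
    have e2 : j.opensRange.ι ≫ (CohB1.ProjSpace 1 k).topIso.inv = (CohB1.ProjSpace 1 k).homOfLE hUV := by
      rw [← cancel_mono (⊤ : (CohB1.ProjSpace 1 k).Opens).ι, Category.assoc, Scheme.homOfLE_ι,
        ← Scheme.topIso_hom, Iso.inv_hom_id, Category.comp_id]
    rw [Category.assoc, reassoc_of% e2, hvf, Iso.hom_inv_id_assoc]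
  · rw [Category.assoc, hv, ← Category.assoc, ← Scheme.topIso_hom, Iso.inv_hom_id, Category.id_comp]

/-- Two rational points with the same image are equal. -/
theorem algHom_eq_of_ker_eq {B : Type u} [CommRing B] [Algebra k B] (χ₁ χ₂ : B →ₐ[k] k)
    (h : RingHom.ker χ₁ = RingHom.ker χ₂) : χ₁ = χ₂ := by
  ext x
  have h1 : x - algebraMap k B (χ₁ x) ∈ RingHom.ker χ₂ := h ▸ by simp [RingHom.mem_ker]
  have h2 : χ₂ x - χ₁ x = 0 := by simpa [RingHom.mem_ker] using h1
  exact (sub_eq_zero.1 h2).symm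

/-- An element of a reduced algebra of finite type vanishing at all rational points is zero. -/
theorem eq_zero_of_forall_algHom [IsAlgClosed k] {A : Type u} [CommRing A] [Algebra k A] [Algebra.FiniteType k A]
    [_root_.IsReduced A] (a : A) (h : ∀ χ : A →ₐ[k] k, χ a = 0) : a = 0 := by
  haveI : IsJacobsonRing A := isJacobsonRing_of_finiteType (A := k)
  have hr : (⊥ : Ideal A).jacobson = ⊥ :=
    IsJacobsonRing.out inferInstance (Ideal.isRadical_bot_iff.2 ‹_›)
  have : a ∈ (⊥ : Ideal A).jacobson := by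
    refine Ideal.mem_sInf.2 fun {m} hm => ?_
    haveI := hm.2
    letI := Ideal.Quotient.field m
    haveI : Algebra.FiniteType k (A ⧸ m) :=
      Algebra.FiniteType.of_surjective (Ideal.Quotient.mkₐ k m) (Ideal.Quotient.mkₐ_surjective k m)
    haveI : Module.Finite k (A ⧸ m) := finite_of_finite_type_of_isJacobsonRing k (A ⧸ m)
    let e := AlgEquiv.ofBijective (Algebra.ofId k (A ⧸ m)) IsAlgClosed.algebraMap_bijective_of_isIntegral
    have := h (e.symm.toAlgHom.comp (Ideal.Quotient.mkₐ k m))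
    have h0 : e.symm (Ideal.Quotient.mk m a) = 0 := this
    exact Ideal.Quotient.eq_zero_iff_mem.1 ((map_eq_zero_iff _ e.symm.injective).1 h0)
  rwa [hr] at this

/-- Evaluation at a point outside the hypersurface `h = 0`. -/
def evAway {R : Type u} [CommRing R] [Algebra k R] {F : Type u} [Field F] [Algebra k F] (φ : R →ₐ[k] F) (h : R)
    (hh : φ h ≠ 0) : Localization.Away h →ₐ[k] F where
  toRingHom := IsLocalization.Away.lift (S := Localization.Away h) h (g := φ.toRingHom) (Ne.isUnit hh)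
  commutes' r := by
    show IsLocalization.Away.lift (S := Localization.Away h) h (g := φ.toRingHom) (Ne.isUnit hh) _ = _
    rw [IsScalarTower.algebraMap_apply k R (Localization.Away h), IsLocalization.Away.lift_eq]
    exact φ.commutes r

theorem evAway_algebraMap {R : Type u} [CommRing R] [Algebra k R] {F : Type u} [Field F] [Algebra k F]
    (φ : R →ₐ[k] F) (h : R) (hh : φ h ≠ 0) (x : R) :
    evAway φ h hh (algebraMap R (Localization.Away h) x) = φ x :=
  IsLocalization.Away.lift_eq h (g := φ.toRingHom) (Ne.isUnit hh) x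

/-- Evaluation at a tuple of elements of an algebra. -/
def evalK {L : Type u} [Field L] [Algebra k L] (t : σ₀ → L) : MvPolynomial σ₀ L →ₐ[k] L where
  toRingHom := eval t
  commutes' r := by
    show eval t (algebraMap k (MvPolynomial σ₀ L) r) = _
    rw [MvPolynomial.algebraMap_apply, eval_C]

theorem evalK_apply {L : Type u} [Field L] [Algebra k L] (t : σ₀ → L) (g : MvPolynomial σ₀ L) :
    evalK (k := k) t g = eval t g := rfl

/-- Algebra maps to open subsets of the affine line over `k` are constant. -/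
def ConstLine (k : Type u) [Field k] (B : Type u) [CommRing B] [Algebra k B] : Prop :=
  ∀ (hχ : MvPolynomial σ₀ k) (θ : B →ₐ[k] Localization.Away hχ) (t : σ₀ → k) (ht : evalK (k := k) t hχ ≠ 0)
    (h0 : evalK (k := k) (0 : σ₀ → k) hχ ≠ 0), (evAway (evalK t) hχ ht).comp θ = (evAway (evalK 0) hχ h0).comp θ

theorem constLine_of_noRat (p : Y ⟶ Spec (CommRingCat.of k)) [IsProper p]
    (hnorat : ∀ g : CohB1.ProjSpace 1 k ⟶ Y, g ≫ p = CohB1.ProjSpace.toSpec 1 k →
      ∃ y : Y, Set.range g.base ⊆ {y})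
    {W : Y.Opens} (hW : IsAffineOpen W) [Algebra k Γ(Y, W)]
    (hρ : Spec.map (CommRingCat.ofHom (algebraMap k Γ(Y, W))) = hW.fromSpec ≫ p) :
    ConstLine k Γ(Y, W) := by
  intro hχ θ t ht h0
  haveI := isOpenImmersion_chart k
  let j : Spec (CommRingCat.of (Localization.Away hχ)) ⟶ CohB1.ProjSpace 1 k :=
    Spec.map (CommRingCat.ofHom (algebraMap (MvPolynomial σ₀ k) (Localization.Away hχ))) ≫ H17.P1Fibre.chart k 0
  haveI : IsOpenImmersion (Spec.map (CommRingCat.ofHom (algebraMap (MvPolynomial σ₀ k) (Localization.Away hχ)))) :=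
    IsOpenImmersion.of_isLocalization hχ
  haveI : Nonempty (Spec (CommRingCat.of (Localization.Away hχ))) :=
    ⟨Spec.map (CommRingCat.ofHom (evAway (evalK (k := k) 0) hχ h0).toRingHom) (IsLocalRing.closedPoint k)⟩
  obtain ⟨g, hjg, hgp⟩ := exists_extension_projLine p j (Spec.map (CommRingCat.ofHom θ.toRingHom) ≫ hW.fromSpec)
    (by
      rw [Category.assoc, ← hρ, ← Spec.map_comp, Category.assoc, H17.P1Fibre.chart_toSpec, ← Spec.map_comp]
      congr 1
      refine CommRingCat.hom_ext (RingHom.ext fun r => ?_)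
      exact (θ.commutes r).trans (IsScalarTower.algebraMap_apply k (MvPolynomial σ₀ k) _ r))
  obtain ⟨y, hy⟩ := hnorat g hgp
  have hpt : ∀ (χ : Localization.Away hχ →ₐ[k] k), hW.fromSpec (Spec.map (CommRingCat.ofHom (χ.comp θ).toRingHom)
      (IsLocalRing.closedPoint k)) = y := fun χ => by
    have e1 : CommRingCat.ofHom (χ.comp θ).toRingHom =
        CommRingCat.ofHom θ.toRingHom ≫ CommRingCat.ofHom χ.toRingHom := rfl
    rw [e1, Spec.map_comp]
    show (Spec.map (CommRingCat.ofHom θ.toRingHom) ≫ hW.fromSpec) _ = y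
    rw [← hjg]
    exact hy ⟨_, (Scheme.Hom.comp_apply _ _ _).symm⟩
  refine algHom_eq_of_ker_eq _ _ ?_
  have := congrArg PrimeSpectrum.asIdeal
    (hW.fromSpec.isOpenEmbedding.injective ((hpt (evAway (evalK t) hχ ht)).trans (hpt (evAway (evalK 0) hχ h0)).symm))
  show Ideal.comap ((evAway (evalK t) hχ ht).comp θ).toRingHom ⊥ =
    Ideal.comap ((evAway (evalK 0) hχ h0).comp θ).toRingHom ⊥
  rw [← (IsLocalRing.maximalIdeal_eq_bot : IsLocalRing.maximalIdeal k = ⊥)]
  exact this

variable {L : Type u} [Field L] [Algebra k L]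

/-- The map of localizations induced by a map of coefficient rings. -/
theorem exists_awayMap {A : Type u} [CommRing A] [Algebra k A] {A' : Type u} [CommRing A'] [Algebra k A']
    (χ : A →ₐ[k] A') (hA : MvPolynomial σ₀ A) (h' : MvPolynomial σ₀ A') (he : map χ.toRingHom hA = h') :
    ∃ Φ : Localization.Away hA →ₐ[k] Localization.Away h',
      ∀ g : MvPolynomial σ₀ A, Φ (algebraMap _ _ g) = algebraMap _ _ (map χ.toRingHom g) := by
  subst he
  let h' := map χ.toRingHom hA
  have hunit : IsUnit (((algebraMap (MvPolynomial σ₀ A') (Localization.Away h')).comp (map χ.toRingHom)) hA) :=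
    IsLocalization.Away.algebraMap_isUnit h'
  refine ⟨{ IsLocalization.Away.lift (S := Localization.Away hA) hA hunit with commutes' := fun r => ?_ },
    fun g => IsLocalization.Away.lift_eq hA hunit g⟩
  show IsLocalization.Away.lift (S := Localization.Away hA) hA hunit _ = _
  rw [IsScalarTower.algebraMap_apply k (MvPolynomial σ₀ A) (Localization.Away hA), IsLocalization.Away.lift_eq,
    RingHom.comp_apply, IsScalarTower.algebraMap_apply k (MvPolynomial σ₀ A') (Localization.Away h'),
    MvPolynomial.algebraMap_apply, map_C, MvPolynomial.algebraMap_apply]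
  exact congrArg (algebraMap _ (Localization.Away h')) (congrArg C (χ.commutes r))

/-- The vanishing of the obstruction to constancy of one fraction. -/
theorem key_identity [IsAlgClosed k] {B : Type u} [CommRing B] [Algebra k B] (hB : ConstLine k B)
    {A : Type u} [CommRing A] [Algebra k A] [Algebra.FiniteType k A] [_root_.IsReduced A]
    (hA : MvPolynomial σ₀ A) (hu : IsUnit (eval (0 : σ₀ → A) hA)) (ψA : B →ₐ[k] Localization.Away hA) (b : B)
    (f : MvPolynomial σ₀ A) (e : ℕ) (hb : ψA b * algebraMap _ _ hA ^ e = algebraMap _ _ f) :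
    f * C (eval (0 : σ₀ → A) hA) ^ e - C (eval (0 : σ₀ → A) f) * hA ^ e = 0 := by
  refine MvPolynomial.ext _ _ fun d => ?_
  rw [coeff_zero]
  refine eq_zero_of_forall_algHom (k := k) _ fun χ => ?_
  set hχ := map χ.toRingHom hA with hhχ
  have hev : ∀ g : MvPolynomial σ₀ A, χ (eval (0 : σ₀ → A) g) = eval (0 : σ₀ → k) (map χ.toRingHom g) :=
    fun g => (map_eval χ.toRingHom (0 : σ₀ → A) g).trans
      (congrArg (fun t => eval t (map χ.toRingHom g)) (funext fun _ => map_zero χ.toRingHom))
  have hχ0 : evalK (k := k) (0 : σ₀ → k) hχ ≠ 0 := by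
    rw [evalK_apply, hhχ, ← hev]; exact (hu.map χ).ne_zero
  have hχne : hχ ≠ 0 := fun z => hχ0 (by rw [z, map_zero])
  obtain ⟨Ψ, hΨ⟩ := exists_awayMap χ hA hχ hhχ.symm
  have hval : ∀ t (ht : evalK (k := k) t hχ ≠ 0),
      (evAway (evalK t) hχ ht).comp (Ψ.comp ψA) b * eval t hχ ^ e = eval t (map χ.toRingHom f) := fun t ht => by
    have h1 := congrArg (fun z => evAway (evalK t) hχ ht (Ψ z)) hb
    simp only [map_mul, map_pow, hΨ] at h1
    rw [evAway_algebraMap, evAway_algebraMap] at h1
    exact h1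
  have e1 : map χ.toRingHom (C (eval (0 : σ₀ → A) hA) : MvPolynomial σ₀ A) = C (eval (0 : σ₀ → k) hχ) :=
    (map_C _ _).trans (congrArg C (hev hA))
  have e2 : map χ.toRingHom (C (eval (0 : σ₀ → A) f) : MvPolynomial σ₀ A) = C (eval (0 : σ₀ → k) (map χ.toRingHom f)) :=
    (map_C _ _).trans (congrArg C (hev _))
  have hvan : map χ.toRingHom (f * C (eval (0 : σ₀ → A) hA) ^ e - C (eval (0 : σ₀ → A) f) * hA ^ e) * hχ = 0 :=
    MvPolynomial.funext fun t => by
      rw [map_zero, map_mul]
      by_cases ht : eval t hχ = 0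
      · rw [ht, mul_zero]
      · have h1 := hval t ht
        have h2 := hval 0 hχ0
        rw [congrArg (fun z : B →ₐ[k] k => z b) (hB hχ (Ψ.comp ψA) t ht hχ0)] at h1
        rw [map_sub, map_mul, map_mul, map_pow, map_pow, e1, e2, ← hhχ, map_sub, map_mul, map_mul, map_pow,
          map_pow, eval_C, eval_C, ← h1, ← h2]
        ring
  have : coeff d (map χ.toRingHom (f * C (eval (0 : σ₀ → A) hA) ^ e - C (eval (0 : σ₀ → A) f) * hA ^ e)) = 0 := by
    rw [(mul_eq_zero.1 hvan).resolve_right hχne, coeff_zero]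
  rwa [coeff_map] at this

/-- A map of localizations along an injective map of coefficient rings is injective. -/
theorem awayMap_injective {A : Type u} [CommRing A] [Algebra k A] (j : A →ₐ[k] L) (hj : Function.Injective j)
    (hA : MvPolynomial σ₀ A) (h' : MvPolynomial σ₀ L) (hne : h' ≠ 0)
    (Φ : Localization.Away hA →ₐ[k] Localization.Away h')
    (hΦ : ∀ g : MvPolynomial σ₀ A, Φ (algebraMap _ _ g) = algebraMap _ _ (map j.toRingHom g)) :
    Function.Injective Φ := by
  have hGinj : Function.Injective (algebraMap (MvPolynomial σ₀ L) (Localization.Away h')) :=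
    IsLocalization.injective _ (powers_le_nonZeroDivisors_of_noZeroDivisors hne)
  rw [injective_iff_map_eq_zero]
  intro z hz
  obtain ⟨⟨g, s⟩, hgs⟩ := IsLocalization.surj (Submonoid.powers hA) z
  have h1 : Φ (algebraMap _ _ g) = 0 := by rw [← hgs, map_mul, hz, zero_mul]
  rw [hΦ] at h1
  have h2 : g = 0 := map_injective _ hj
    ((hGinj (h1.trans (map_zero _).symm)).trans (map_zero _).symm)
  rw [h2, map_zero] at hgs
  exact (IsLocalization.map_units (Localization.Away hA) s).mul_left_eq_zero.1 hgs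

/-- Corestriction of an algebra map along an injective one. -/
theorem exists_corestrict {B G G' : Type u} [CommRing B] [CommRing G] [CommRing G'] [Algebra k B] [Algebra k G]
    [Algebra k G'] (Φ : G →ₐ[k] G') (hinj : Function.Injective Φ) (ψ : B →ₐ[k] G') (gens : Finset B)
    (hgens : Algebra.adjoin k (gens : Set B) = ⊤) (h : ∀ b ∈ gens, ψ b ∈ Φ.range) :
    ∃ ψA : B →ₐ[k] G, ∀ b, Φ (ψA b) = ψ b := by
  have hr : ∀ b, ψ b ∈ Φ.range := by
    have : Algebra.adjoin k (gens : Set B) ≤ Φ.range.comap ψ := Algebra.adjoin_le fun b hb => h b hb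
    intro b
    exact this (hgens ▸ Algebra.mem_top)
  exact ⟨(AlgEquiv.ofInjective Φ hinj).symm.toAlgHom.comp (ψ.codRestrict Φ.range hr), fun b =>
    congrArg Subtype.val ((AlgEquiv.ofInjective Φ hinj).apply_symm_apply (ψ.codRestrict Φ.range hr b))⟩

theorem eval_zero_map {A : Type u} [CommRing A] {R : Type u} [CommRing R] (φ : A →+* R) (g : MvPolynomial σ₀ A) :
    φ (eval (0 : σ₀ → A) g) = eval (0 : σ₀ → R) (map φ g) :=
  (map_eval φ (0 : σ₀ → A) g).trans (congrArg (fun t => eval t (map φ g)) (funext fun _ => map_zero φ))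

/-- The constancy statement, with the coefficients in a given algebra of finite type. -/
theorem eq_const_aux [IsAlgClosed k] {B : Type u} [CommRing B] [Algebra k B] (hB : ConstLine k B)
    {A : Type u} [CommRing A] [Algebra k A] [Algebra.FiniteType k A] [_root_.IsReduced A]
    (j : A →ₐ[k] L) (hj : Function.Injective j) (hA : MvPolynomial σ₀ A) (hu0 : IsUnit (eval (0 : σ₀ → A) hA))
    (h : MvPolynomial σ₀ L) (hhA : map j.toRingHom hA = h) (hh0 : evalK (k := k) (0 : σ₀ → L) h ≠ 0)
    (ψ : B →ₐ[k] Localization.Away h) (gens : Finset B) (hgens : Algebra.adjoin k (gens : Set B) = ⊤)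
    (hf : ∀ b ∈ gens, ∃ (f : MvPolynomial σ₀ A) (e : ℕ),
      ψ b * algebraMap _ _ h ^ e = algebraMap _ _ (map j.toRingHom f)) :
    ∀ b, ψ b = algebraMap L _ (evAway (evalK 0) h hh0 (ψ b)) := by
  choose fA e hψb using hf
  have hne : h ≠ 0 := fun z => hh0 (by rw [z, map_zero])
  obtain ⟨Φ, hΦ⟩ := exists_awayMap j hA h hhA
  have hinj := awayMap_injective j hj hA h hne Φ hΦ
  obtain ⟨ψA, hψA⟩ := exists_corestrict Φ hinj ψ gens hgens fun b hb => by
    let u := (IsLocalization.Away.algebraMap_isUnit (S := Localization.Away hA) hA).unit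
    refine ⟨algebraMap _ _ (fA b hb) * ↑(u ^ e b hb)⁻¹, ?_⟩
    have hu : (↑(u ^ e b hb) : Localization.Away hA) = algebraMap _ _ hA ^ e b hb := by simp [u]
    have h1 := congrArg Φ (show algebraMap _ _ (fA b hb) * (↑(u ^ e b hb)⁻¹ : Localization.Away hA) *
      algebraMap _ _ hA ^ e b hb = algebraMap _ _ (fA b hb) by rw [mul_assoc, ← hu, Units.inv_mul, mul_one])
    rw [map_mul, map_pow, hΦ hA, hhA, hΦ, ← hψb b hb] at h1
    exact ((IsLocalization.Away.algebraMap_isUnit (S := Localization.Away h) h).pow (e b hb)).mul_right_cancel h1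
  have hgen : ∀ b ∈ gens, ψ b = algebraMap L _ (evAway (evalK 0) h hh0 (ψ b)) := fun b hb => by
    have hψAb : ψA b * algebraMap _ _ hA ^ e b hb = algebraMap _ _ (fA b hb) := hinj <| by
      rw [map_mul, map_pow, hΦ, hΦ, hhA, hψA, hψb]
    have h1 := congrArg (fun z => algebraMap _ (Localization.Away h)
      (map j.toRingHom z)) (key_identity hB hA hu0 ψA b (fA b hb) (e b hb) hψAb)
    have hC : ∀ a : A, map j.toRingHom (C a : MvPolynomial σ₀ A) = C (j a : L) := fun a => map_C _ _
    have hev : ∀ g : MvPolynomial σ₀ A, j (eval (0 : σ₀ → A) g) = eval (0 : σ₀ → L) (map j.toRingHom g) :=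
      fun g => eval_zero_map j.toRingHom g
    simp only [map_sub, map_mul, map_pow, map_zero, hC, hev, hhA] at h1
    have h2 := congrArg (evAway (evalK (k := k) (0 : σ₀ → L)) h hh0) (hψb b hb)
    rw [map_mul, map_pow, evAway_algebraMap, evAway_algebraMap, evalK_apply, evalK_apply] at h2
    have hL : ∀ x : L, algebraMap (MvPolynomial σ₀ L) (Localization.Away h) (C x) = algebraMap L _ x := fun x =>
      (IsScalarTower.algebraMap_apply L (MvPolynomial σ₀ L) _ x).symm
    simp only [hL] at h1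
    rw [← h2, map_mul, map_pow, ← hψb b hb] at h1
    have h3 : IsUnit (algebraMap _ (Localization.Away h) h ^ e b hb *
        algebraMap L _ (eval (0 : σ₀ → L) h) ^ e b hb) :=
      ((IsLocalization.Away.algebraMap_isUnit _).pow _).mul
        (((Ne.isUnit (show eval (0 : σ₀ → L) h ≠ 0 from hh0)).map _).pow _)
    refine h3.mul_left_injective ?_
    show ψ b * _ = algebraMap L _ _ * _
    linear_combination h1
  intro b
  exact congrArg (fun z : B →ₐ[k] Localization.Away h => z b) (AlgHom.ext_of_adjoin_eq_top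
    (φ₁ := ψ) (φ₂ := ((IsScalarTower.toAlgHom k L _).comp (evAway (evalK 0) h hh0)).comp ψ) hgens hgen)

/-- An algebra map to an open subset of the affine line over an extension field is constant. -/
theorem eq_const [IsAlgClosed k] {B : Type u} [CommRing B] [Algebra k B] [Algebra.FiniteType k B]
    (hB : ConstLine k B) (h : MvPolynomial σ₀ L) (hh0 : evalK (k := k) (0 : σ₀ → L) h ≠ 0)
    (ψ : B →ₐ[k] Localization.Away h) :
    ∀ b, ψ b = algebraMap L _ (evAway (evalK 0) h hh0 (ψ b)) := by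
  classical
  obtain ⟨gens, hgens⟩ := Algebra.FiniteType.out (R := k) (A := B)
  choose fh hfh using fun b : B => IsLocalization.surj (Submonoid.powers h) (ψ b)
  let S : Finset L := (gens.biUnion fun b => (fh b).1.coeffs) ∪ h.coeffs ∪ {(eval (0 : σ₀ → L) h)⁻¹}
  let A : Subalgebra k L := Algebra.adjoin k (S : Set L)
  haveI : Algebra.FiniteType k A := ⟨(Subalgebra.fg_top A).2 ⟨S, rfl⟩⟩
  have hmem : ∀ g : MvPolynomial σ₀ L, g.coeffs ⊆ S → ∃ gA : MvPolynomial σ₀ A, map A.val.toRingHom gA = g :=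
    fun g hg => mem_range_map_iff_coeffs_subset.2 fun x hx =>
      ⟨⟨x, Algebra.subset_adjoin (Finset.mem_coe.2 (hg hx))⟩, rfl⟩
  obtain ⟨hA, hhA⟩ := hmem h fun x hx => Finset.mem_union_left _ (Finset.mem_union_right _ hx)
  have hu0 : IsUnit (eval (0 : σ₀ → A) hA) := by
    refine isUnit_iff_exists_inv.2 ⟨⟨(eval (0 : σ₀ → L) h)⁻¹, Algebra.subset_adjoin
      (Finset.mem_coe.2 (Finset.mem_union_right _ (Finset.mem_singleton_self _)))⟩, Subtype.ext ?_⟩
    show A.val.toRingHom (eval (0 : σ₀ → A) hA) * (eval (0 : σ₀ → L) h)⁻¹ = 1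
    rw [eval_zero_map, hhA, mul_inv_cancel₀ (by simpa only [evalK_apply] using hh0)]
  refine eq_const_aux hB A.val Subtype.val_injective hA hu0 h hhA hh0 ψ gens hgens fun b hb => ?_
  obtain ⟨fA, hfA⟩ := hmem (fh b).1 fun x hx =>
    Finset.mem_union_left _ (Finset.mem_union_left _ (Finset.mem_biUnion.2 ⟨b, hb, hx⟩))
  obtain ⟨e, he⟩ := (fh b).2.2
  refine ⟨fA, e, ?_⟩
  rw [← map_pow, show h ^ e = _ from he, hfA]
  exact hfh b

/-- A proper scheme over an algebraically closed field without rational curves has none over any extension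
field. -/
theorem noP1_of_noRat [IsAlgClosed k] (p : Y ⟶ Spec (CommRingCat.of k)) [IsProper p]
    (hnorat : ∀ g : CohB1.ProjSpace 1 k ⟶ Y, g ≫ p = CohB1.ProjSpace.toSpec 1 k →
      ∃ y : Y, Set.range g.base ⊆ {y}) : NoP1 p := by
  intro L _ c π hc
  obtain ⟨i, rfl⟩ := Spec.map_surjective π
  letI : Algebra k L := i.hom.toAlgebra
  haveI := isOpenImmersion_chart L
  let ch := H17.P1Fibre.chart L 0
  let z₀ := Spec.map (CommRingCat.ofHom (eval (0 : σ₀ → L))) (IsLocalRing.closedPoint L)
  obtain ⟨W, hW, hzW, -⟩ := exists_isAffineOpen_mem_and_subset (X := Y) (x := (ch ≫ c) z₀) (U := ⊤) trivial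
  obtain ⟨_, ⟨h, rfl⟩, hz, hle⟩ := PrimeSpectrum.isTopologicalBasis_basic_opens.exists_subset_of_mem_open
    (show z₀ ∈ ((ch ≫ c) ⁻¹ᵁ W : Set (Spec (CommRingCat.of (MvPolynomial σ₀ L)))) from hzW)
    ((ch ≫ c) ⁻¹ᵁ W).2
  have hh0 : evalK (k := k) (0 : σ₀ → L) h ≠ 0 := fun e => hz <| by
    show eval (0 : σ₀ → L) h ∈ IsLocalRing.maximalIdeal L
    rw [show eval (0 : σ₀ → L) h = 0 from e]; exact zero_mem _
  let jh : Spec (CommRingCat.of (Localization.Away h)) ⟶ Spec (CommRingCat.of (MvPolynomial σ₀ L)) :=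
    Spec.map (CommRingCat.ofHom (algebraMap (MvPolynomial σ₀ L) (Localization.Away h)))
  haveI : IsOpenImmersion jh := IsOpenImmersion.of_isLocalization h
  have hrange : Set.range (jh ≫ ch ≫ c) ⊆ Set.range hW.fromSpec := by
    rintro _ ⟨w, rfl⟩
    rw [hW.range_fromSpec, Scheme.Hom.comp_apply]
    refine hle ?_
    exact (PrimeSpectrum.localization_away_comap_range (Localization.Away h) h).le ⟨w, rfl⟩
  obtain ⟨ψc, hψc⟩ := Spec.map_surjective (IsOpenImmersion.lift hW.fromSpec (jh ≫ ch ≫ c) hrange)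
  have hψ : Spec.map ψc ≫ hW.fromSpec = jh ≫ ch ≫ c := by rw [hψc, IsOpenImmersion.lift_fac]
  obtain ⟨ρ, hρ⟩ := Spec.map_surjective (hW.fromSpec ≫ p)
  have hρft : ρ.hom.FiniteType := by
    have : LocallyOfFiniteType (Spec.map ρ) := by rw [hρ]; infer_instance
    exact (HasRingHomProperty.Spec_iff (P := @LocallyOfFiniteType)).1 this
  letI : Algebra k Γ(Y, W) := ρ.hom.toAlgebra
  haveI : Algebra.FiniteType k Γ(Y, W) := hρft
  have hcomp : ρ ≫ ψc = i ≫ CommRingCat.ofHom (algebraMap L (MvPolynomial σ₀ L)) ≫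
      CommRingCat.ofHom (algebraMap (MvPolynomial σ₀ L) (Localization.Away h)) := Spec.map_injective <| by
    rw [Spec.map_comp, Spec.map_comp, Spec.map_comp, hρ, reassoc_of% hψ, hc, ← H17.P1Fibre.chart_toSpec]
    simp only [Category.assoc]
    rfl
  let ψ : Γ(Y, W) →ₐ[k] Localization.Away h :=
    { ψc.hom with
      commutes' := fun r => by
        rw [IsScalarTower.algebraMap_apply k L (Localization.Away h),
          IsScalarTower.algebraMap_apply L (MvPolynomial σ₀ L) (Localization.Away h)]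
        exact ConcreteCategory.congr_hom hcomp r }
  have hB : ConstLine k Γ(Y, W) := constLine_of_noRat p hnorat hW hρ
  have hconst := eq_const hB h hh0 ψ
  let ε := evAway (evalK (k := k) (0 : σ₀ → L)) h hh0
  let a : Spec (CommRingCat.of L) ⟶ Y := Spec.map (CommRingCat.ofHom (ε.comp ψ).toRingHom) ≫ hW.fromSpec
  have ha : a ≫ p = Spec.map i := by
    rw [Category.assoc, ← hρ, ← Spec.map_comp]
    congr 1
    exact CommRingCat.hom_ext (RingHom.ext fun r => (ε.comp ψ).commutes r)
  refine ⟨a, ?_, ha⟩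
  obtain ⟨hint, -, -⟩ := H28Curve.projLine_facts L
  haveI := hint
  haveI : IsDominant (jh ≫ ch) := by
    haveI : Nonempty (Spec (CommRingCat.of (Localization.Away h))) :=
      ⟨Spec.map (CommRingCat.ofHom ε.toRingHom) (IsLocalRing.closedPoint L)⟩
    exact ⟨(jh ≫ ch).isOpenEmbedding.isOpen_range.dense (Set.range_nonempty _)⟩
  refine ext_of_isDominant_of_isSeparated p (by rw [hc, Category.assoc, ha]) (jh ≫ ch) ?_
  rw [Category.assoc, ← hψ, Category.assoc, reassoc_of% (H17.P1Fibre.chart_toSpec (R := L) (0 : Fin (1 + 1)))]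
  show _ = jh ≫ _ ≫ Spec.map _ ≫ hW.fromSpec
  rw [← Spec.map_comp_assoc, ← Spec.map_comp_assoc]
  congr 2
  refine CommRingCat.hom_ext (RingHom.ext fun x => ?_)
  exact (hconst x).trans (IsScalarTower.algebraMap_apply L (MvPolynomial σ₀ L) _ _)

end Groth.Agent.H28AbExt
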