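import Groth.Agent.H28AbExt.NoRat

/-!
# Rational maps to varieties without rational curves
-/

set_option autoImplicit false
set_option linter.style.haveILetI false
set_option backward.isDefEq.respectTransparency.types false
universe u

open CategoryTheory CategoryTheory.Limits AlgebraicGeometry
open Groth.Agent

noncomputable section

namespace Groth.Agent.H28AbExt

variable {k : Type u} [Field k] [IsAlgClosed k]

theorem isDominant_ι {X : Scheme.{u}} [IsIntegral X] (U : X.Opens) (hU : (U : Set X).Nonempty) :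
    IsDominant U.ι :=
  ⟨by rw [DenseRange, Scheme.Opens.range_ι]; exact U.2.dense hU⟩

/-- A rational map from a smooth variety to a proper scheme without rational curves is defined everywhere. -/
theorem exists_extension_of_noRat {X Y : Scheme.{u}} (sX : X ⟶ Spec (CommRingCat.of k)) [Smooth sX] [IsIntegral X]
    (sY : Y ⟶ Spec (CommRingCat.of k)) [IsProper sY]
    (hnorat : ∀ g : CohB1.ProjSpace 1 k ⟶ Y, g ≫ sY = CohB1.ProjSpace.toSpec 1 k →
      ∃ y : Y, Set.range g.base ⊆ {y})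
    (U : X.Opens) (hU : (U : Set X).Nonempty) (g : (U : Scheme.{u}) ⟶ Y) (hg : g ≫ sY = U.ι ≫ sX) :
    ∃ g' : X ⟶ Y, U.ι ≫ g' = g ∧ g' ≫ sY = sX := by
  haveI : IsLocallyNoetherian X := LocallyOfFiniteType.isLocallyNoetherian sX
  obtain ⟨g₀, hg₀, hUg⟩ := exists_extension (fun t => H28Neron.isRegularLocalRing_stalk_of_smooth sX t)
    (pullback.snd sY sX) ((noP1_of_noRat sY hnorat).of_isPullback (IsPullback.of_hasPullback sY sX)) U
    (U.2.dense hU) (pullback.lift g U.ι hg) (pullback.lift_snd _ _ _)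
  refine ⟨g₀ ≫ pullback.fst sY sX, ?_, ?_⟩
  · rw [reassoc_of% hUg, pullback.lift_fst]
  · rw [Category.assoc, pullback.condition, reassoc_of% hg₀]

theorem isProper_of_projective {Y : Scheme.{u}} (sY : Y ⟶ Spec (CommRingCat.of k))
    (hY : ∃ (n : ℕ) (ι : Y ⟶ CohB1.ProjSpace n k), IsClosedImmersion ι ∧
      ι ≫ CohB1.ProjSpace.toSpec n k = sY) : IsProper sY := by
  obtain ⟨n, ι, hι, hι'⟩ := hY
  haveI := H27Weil.isProper_toSpec n k
  rw [← hι']
  infer_instance

/-- A birational self-map of a smooth proper variety without rational curves is an automorphism. -/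
theorem exists_iso_of_birational {X : Scheme.{u}} (sX : X ⟶ Spec (CommRingCat.of k)) [Smooth sX] [IsProper sX]
    [IsIntegral X]
    (hnorat : ∀ g : CohB1.ProjSpace 1 k ⟶ X, g ≫ sX = CohB1.ProjSpace.toSpec 1 k →
      ∃ x : X, Set.range g.base ⊆ {x})
    (U V : X.Opens) (hU : (U : Set X).Nonempty) (φ : (U : Scheme.{u}) ≅ (V : Scheme.{u}))
    (hφ : φ.hom ≫ V.ι ≫ sX = U.ι ≫ sX) :
    ∃ e : X ≅ X, U.ι ≫ e.hom = φ.hom ≫ V.ι ∧ e.hom ≫ sX = sX := by
  have hV : (V : Set X).Nonempty := by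
    obtain ⟨x, hx⟩ := hU
    exact ⟨_, (φ.hom ⟨x, hx⟩).2⟩
  obtain ⟨f, hf, hf'⟩ := exists_extension_of_noRat sX sX hnorat U hU (φ.hom ≫ V.ι) (by rw [Category.assoc, hφ])
  obtain ⟨g, hg, hg'⟩ := exists_extension_of_noRat sX sX hnorat V hV (φ.inv ≫ U.ι)
    (by rw [Category.assoc, ← hφ, Iso.inv_hom_id_assoc])
  refine ⟨⟨f, g, ?_, ?_⟩, hf, hf'⟩
  · haveI := isDominant_ι U hU
    refine ext_of_isDominant_of_isSeparated sX (by rw [Category.assoc, hg', hf', Category.id_comp]) U.ι ?_
    rw [reassoc_of% hf, hg, Iso.hom_inv_id_assoc, Category.comp_id]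
  · haveI := isDominant_ι V hV
    refine ext_of_isDominant_of_isSeparated sX (by rw [Category.assoc, hf', hg', Category.id_comp]) V.ι ?_
    rw [reassoc_of% hg, hf, Iso.inv_hom_id_assoc, Category.comp_id]

end Groth.Agent.H28AbExt
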